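import Cfsg.Agent.Fus19.Transport

/-!
Centres, hyperfocal subgroups, quotient systems, quasisimplicity and components along isomorphisms.
-/

set_option autoImplicit false

namespace Cfsg.Agent.Fus19

open Cfsg Cfsg.Agent.Fusion Cfsg.Agent.Fus93
open Cfsg.Agent.Fusion91 (push push_of_mem)
open Cfsg.FusionSystem (imageAlong preimageAlong)

variable {Ω : Type*} [Group Ω] {S : Subgroup Ω} {Ω' : Type*} [Group Ω'] {S' : Subgroup Ω'}
variable {F : Cfsg.FusionSystem S} {F' : Cfsg.FusionSystem S'} {a : Ω → Ω'} {b : Ω' → Ω}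

/-- An injective surjective morphism is an isomorphism. -/
theorem fiso_of_surjective {α : S →* Ω'} (hα : F.IsSurjectiveMorphism F' α)
    (hinj : Function.Injective α) : FIso F F' (push α) (fun y => ((Function.invFun α y : S) : Ω)) where
  map_mul x hx y hy := Fusion91.push_mul hx hy
  mem x hx := Fusion91.push_mem hα.2.1 hx
  mem' y _ := (Function.invFun α y).2
  left x hx := by
    rw [push_of_mem hx, Function.leftInverse_invFun hinj ⟨x, hx⟩]
  right y hy := by
    rw [push_of_mem (Function.invFun α y).2]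
    exact Function.invFun_eq (MonoidHom.mem_range.mp (hα.2.1.symm ▸ hy))
  push P f hf P' hP' := by
    obtain ⟨g, hg, hge⟩ := Fusion91.exists_push_map hα hf
    obtain rfl : P' = imageAlong α P := SetLike.coe_injective (hP'.trans (by
      ext y
      rw [SetLike.mem_coe, Fusion91.mem_imageAlong_push hf.dom_le]
      rfl))
    refine hg.congr fun y hy => ?_
    obtain ⟨x, hx, rfl⟩ := (Fusion91.mem_imageAlong_push hf.dom_le).mp hy
    rw [hge x hx]
    simp only [Function.comp_apply, push_of_mem (hf.dom_le hx), Function.leftInverse_invFun hinj _]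
  pull P' f hf P hP := by
    obtain ⟨g, hg, hge⟩ := Fusion91.exists_lift_map hα hf
    have hr : ∀ y ∈ S', α (Function.invFun α y) = y := fun y hy =>
      Function.invFun_eq (MonoidHom.mem_range.mp (hα.2.1.symm ▸ hy))
    obtain rfl : P = preimageAlong α P' := SetLike.coe_injective (hP.trans (by
      ext x
      rw [SetLike.mem_coe, Fusion91.mem_preimage_push]
      constructor
      · rintro ⟨y, hy, rfl⟩
        refine ⟨(Function.invFun α y).2, ?_⟩
        rw [push_of_mem (Function.invFun α y).2, hr y (hf.dom_le hy)]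
        exact hy
      · rintro ⟨hx, hy⟩
        refine ⟨_, hy, ?_⟩
        simp only [push_of_mem hx, Function.leftInverse_invFun hinj _]))
    refine hg.congr fun x hx => ?_
    simp only [Function.comp_apply]
    rw [← hge x hx, push_of_mem (hg.apply_mem hx), Function.leftInverse_invFun hinj _]

/-! ### Centre and hyperfocal subgroup -/

theorem isCentral_img (h : FIso F F' a b) {Q : Subgroup Ω} (hQ : F.IsCentral Q) :
    F'.IsCentral (img a Q) := by
  obtain ⟨hQS, hext⟩ := Fusion.isCentral_iff.mp hQ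
  refine Fusion.isCentral_iff.mpr ⟨h.img_le hQS, fun P f hf => ?_⟩
  obtain ⟨g, hg, hge, hgQ⟩ := hext _ _ (h.symm.map hf)
  have hm := h.map hg
  rw [h.img_sup (h.symm.img_le hf.dom_le) hQS, h.symm.img_img hf.dom_le] at hm
  refine ⟨_, hm, fun x hx => ?_, fun y hy => ?_⟩
  · simp only [Function.comp_apply, hge (h.symm.apply_mem_img hx), h.right x (hf.dom_le hx),
      h.right _ (hf.apply_mem hx)]
  · obtain ⟨x, hx, rfl⟩ := (h.mem_img hQS).mp hy
    simp only [Function.comp_apply, h.left x (hQS hx), hgQ x hx]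

theorem center_le (h : FIso F F' a b) [Finite S] : img a F.center ≤ F'.center :=
  le_sSup (isCentral_img h (Fusion91.isCentral_center F))

theorem img_center (h : FIso F F' a b) [Finite S] [Finite S'] : img a F.center = F'.center := by
  refine le_antisymm (center_le h) ?_
  have h1 := FIso.img_mono (a := a) (center_le h.symm)
  rwa [h.symm.img_img (Fusion91.isCentral_center F').1] at h1

theorem hyperfocal_le' (F : Cfsg.FusionSystem S) (p : ℕ) : F.hyperfocalSubgroup p ≤ S := by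
  refine (Subgroup.closure_le S).mpr ?_
  rintro _ ⟨P, α, x, hP, -, rfl⟩
  exact S.mul_mem (S.inv_mem (hP x.2)) (hP (((α : MulAut P) x).2))

theorem pResidual_map {G H : Type*} [Group G] [Group H] (p : ℕ) (e : G ≃* H) {g : G}
    (hg : g ∈ pResidual p G) : e g ∈ pResidual p H := by
  have h1 : pResidual p G ≤ (pResidual p H).comap e.toMonoidHom := by
    refine (Subgroup.closure_le _).mpr fun x hx => Subgroup.subset_closure ?_
    show Nat.Coprime (orderOf (e x)) p
    rw [e.orderOf_eq]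
    exact hx
  exact h1 hg

theorem hyperfocal_le_img (h : FIso F F' a b) (p : ℕ) :
    F.hyperfocalSubgroup p ≤ img b (F'.hyperfocalSubgroup p) := by
  refine (Subgroup.closure_le _).mpr ?_
  rintro _ ⟨P, α, x, hP, hα, rfl⟩
  let ψ : F.autGroup P ≃* F'.autGroup (img a P) :=
    ((MulAut.congr (h.imgEquiv hP)).subgroupMap (F.autGroup P)).trans
      (MulEquiv.subgroupCongr (h.map_autGroup hP))
  have hy : (a x)⁻¹ * a ((α : MulAut P) x : P) ∈ F'.hyperfocalSubgroup p := by
    refine Subgroup.subset_closure ⟨img a P, ψ α, h.imgEquiv hP x, h.img_le hP,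
      pResidual_map p ψ hα, ?_⟩
    show (a x)⁻¹ * a ((α : MulAut P) x : P) =
      (h.imgEquiv hP x : Ω')⁻¹ *
        (h.imgEquiv hP ((α : MulAut P) ((h.imgEquiv hP).symm (h.imgEquiv hP x))) : Ω')
    rw [MulEquiv.symm_apply_apply]
    rfl
  have hxS : (x : Ω) ∈ S := hP x.2
  have hαS : (((α : MulAut P) x : P) : Ω) ∈ S := hP ((α : MulAut P) x).2
  rw [SetLike.mem_coe, ← h.left _ (S.mul_mem (S.inv_mem hxS) hαS),
    h.map_mul _ (S.inv_mem hxS) _ hαS, h.map_inv hxS]
  exact h.symm.apply_mem_img hy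

theorem hyperfocal_eq_top (h : FIso F F' a b) {p : ℕ} (hF : F.hyperfocalSubgroup p = S) :
    F'.hyperfocalSubgroup p = S' := by
  refine le_antisymm (hyperfocal_le' F' p) fun y hy => ?_
  have h1 := hyperfocal_le_img h p (hF.ge (h.mem' y hy))
  obtain ⟨z, hz, hzy⟩ := (h.symm.mem_img (hyperfocal_le' F' p)).mp h1
  rwa [← h.right y hy, ← hzy, h.right z (hyperfocal_le' F' p hz)]

/-! ### Isomorphisms of quotient systems -/

section Quot

variable {Ω₁ : Type*} [Group Ω₁] {S₁ : Subgroup Ω₁} {E₁ : Cfsg.FusionSystem S₁} {θ₁ : S →* Ω₁}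
variable {Ω₂ : Type*} [Group Ω₂] {S₂ : Subgroup Ω₂} {E₂ : Cfsg.FusionSystem S₂} {θ₂ : S' →* Ω₂}

/-- The function induced on the quotients. -/
noncomputable def qmap (θ₁ : S →* Ω₁) (θ₂ : S' →* Ω₂) (a : Ω → Ω') : Ω₁ → Ω₂ :=
  fun y => push θ₂ (a (Function.invFunOn (push θ₁) (S : Set Ω) y))

theorem qmap_push (h : FIso F F' a b)
    (hk : ∀ x ∈ S, push θ₁ x = 1 → push θ₂ (a x) = 1) {x : Ω} (hx : x ∈ S) :
    qmap θ₁ θ₂ a (push θ₁ x) = push θ₂ (a x) := by
  have hex : ∃ z ∈ (S : Set Ω), push θ₁ z = push θ₁ x := ⟨x, hx, rfl⟩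
  have hzS : Function.invFunOn (push θ₁) (S : Set Ω) (push θ₁ x) ∈ S := Function.invFunOn_mem hex
  have hz := Function.invFunOn_eq hex
  have h1 := hk _ (S.mul_mem (S.inv_mem hzS) hx) (by
    rw [Fusion91.push_mul (S.inv_mem hzS) hx, Fusion91.push_inv hzS, hz, inv_mul_cancel])
  rw [h.map_mul _ (S.inv_mem hzS) _ hx, Fusion91.push_mul (h.mem _ (S.inv_mem hzS)) (h.mem _ hx),
    h.map_inv hzS, Fusion91.push_inv (h.mem _ hzS), inv_mul_eq_one] at h1
  exact h1

theorem qmap_map (h : FIso F F' a b) (h₁ : F.IsSurjectiveMorphism E₁ θ₁)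
    (h₂ : F'.IsSurjectiveMorphism E₂ θ₂)
    (hk : ∀ x ∈ S, push θ₁ x = 1 → push θ₂ (a x) = 1)
    (hk' : ∀ y ∈ S', push θ₂ y = 1 → push θ₁ (b y) = 1)
    {P : Subgroup Ω₁} {f : Ω₁ → Ω₁} (hf : IsMap E₁ P f) {P' : Subgroup Ω₂}
    (hP' : (P' : Set Ω₂) = qmap θ₁ θ₂ a '' P) :
    IsMap E₂ P' (qmap θ₁ θ₂ a ∘ f ∘ qmap θ₂ θ₁ b) := by
  obtain ⟨f₀, hf₀, he₀⟩ := Fusion91.exists_lift_map h₁ hf
  obtain ⟨g, hg, hge⟩ := Fusion91.exists_push_map h₂ (h.map hf₀)
  have himg : P' = imageAlong θ₂ (img a (preimageAlong θ₁ P)) := by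
    apply SetLike.coe_injective
    rw [hP']
    ext z
    rw [SetLike.mem_coe, Fusion91.mem_imageAlong_push (h.img_le hf₀.dom_le)]
    constructor
    · rintro ⟨y, hy, rfl⟩
      obtain ⟨x, hx, rfl⟩ := Fusion91.exists_push_eq h₁.2.1 (hf.dom_le hy)
      exact ⟨a x, h.apply_mem_img (Fusion91.mem_preimage_push.mpr ⟨hx, hy⟩),
        (qmap_push h hk hx).symm⟩
    · rintro ⟨_, hy, rfl⟩
      obtain ⟨x, hx, rfl⟩ := (h.mem_img hf₀.dom_le).mp hy
      obtain ⟨hxS, hxP⟩ := Fusion91.mem_preimage_push.mp hx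
      exact ⟨_, hxP, qmap_push h hk hxS⟩
  rw [himg]
  refine hg.congr fun z hz => ?_
  obtain ⟨y, hy, rfl⟩ := (Fusion91.mem_imageAlong_push (h.img_le hf₀.dom_le)).mp hz
  obtain ⟨x, hx, rfl⟩ := (h.mem_img hf₀.dom_le).mp hy
  have hxS := hf₀.dom_le hx
  rw [hge _ hy]
  simp only [Function.comp_apply]
  rw [qmap_push h.symm hk' (h.mem x hxS), h.left x hxS, ← he₀ x hx,
    qmap_push h hk (hf₀.apply_mem hx)]

theorem qmap_left (h : FIso F F' a b) (h₁ : F.IsSurjectiveMorphism E₁ θ₁)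
    (hk : ∀ x ∈ S, push θ₁ x = 1 → push θ₂ (a x) = 1)
    (hk' : ∀ y ∈ S', push θ₂ y = 1 → push θ₁ (b y) = 1) :
    ∀ y ∈ S₁, qmap θ₂ θ₁ b (qmap θ₁ θ₂ a y) = y := by
  intro y hy
  obtain ⟨x, hx, rfl⟩ := Fusion91.exists_push_eq h₁.2.1 hy
  rw [qmap_push h hk hx, qmap_push h.symm hk' (h.mem x hx), h.left x hx]

/-- Quotients of isomorphic systems by corresponding subgroups are isomorphic. -/
theorem fiso_quot (h : FIso F F' a b) (h₁ : F.IsSurjectiveMorphism E₁ θ₁)
    (h₂ : F'.IsSurjectiveMorphism E₂ θ₂)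
    (hk : ∀ x ∈ S, push θ₁ x = 1 → push θ₂ (a x) = 1)
    (hk' : ∀ y ∈ S', push θ₂ y = 1 → push θ₁ (b y) = 1) :
    FIso E₁ E₂ (qmap θ₁ θ₂ a) (qmap θ₂ θ₁ b) where
  map_mul y hy y' hy' := by
    obtain ⟨x, hx, rfl⟩ := Fusion91.exists_push_eq h₁.2.1 hy
    obtain ⟨x', hx', rfl⟩ := Fusion91.exists_push_eq h₁.2.1 hy'
    rw [← Fusion91.push_mul hx hx', qmap_push h hk hx, qmap_push h hk hx',
      qmap_push h hk (S.mul_mem hx hx'), h.map_mul x hx x' hx',
      Fusion91.push_mul (h.mem x hx) (h.mem x' hx')]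
  mem y hy := by
    obtain ⟨x, hx, rfl⟩ := Fusion91.exists_push_eq h₁.2.1 hy
    rw [qmap_push h hk hx]
    exact Fusion91.push_mem h₂.2.1 (h.mem x hx)
  mem' y hy := by
    obtain ⟨x, hx, rfl⟩ := Fusion91.exists_push_eq h₂.2.1 hy
    rw [qmap_push h.symm hk' hx]
    exact Fusion91.push_mem h₁.2.1 (h.mem' x hx)
  left := qmap_left h h₁ hk hk'
  right := qmap_left h.symm h₂ hk' hk
  push _ _ hf _ hP := qmap_map h h₁ h₂ hk hk' hf hP
  pull _ _ hf _ hP := qmap_map h.symm h₂ h₁ hk' hk hf hP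

end Quot

/-! ### Quasisimple systems and components -/

theorem push_mk'_eq_one {Z : Subgroup Ω} [(Z.subgroupOf S).Normal] {x : Ω} (hx : x ∈ S) :
    push (QuotientGroup.mk' (Z.subgroupOf S)) x = 1 ↔ x ∈ Z := by
  rw [push_of_mem hx, QuotientGroup.mk'_apply, QuotientGroup.eq_one_iff, Subgroup.mem_subgroupOf]

/-- Quasisimplicity is invariant under isomorphisms. -/
theorem quasisimple_transport (h : FIso F F' a b) [Finite S] [Finite S'] {p : ℕ} [Fact p.Prime]
    (hS : IsPGroup p S) (hS' : IsPGroup p S') (hq : F.Quasisimple p) : F'.Quasisimple p := by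
  obtain ⟨hF, hhyp, hsimp⟩ := hq
  have hF' := h.isSaturated hF
  refine ⟨hF', hyperfocal_eq_top h hhyp, fun E₂ hE₂ => ?_⟩
  have hn := Fusion91.stronglyClosed_center F
  obtain ⟨E₁, hE₁⟩ := Fusion91.exists_factor_mk' F hn
  have h₁ := S5134.result p hS F hF F.center hn _ E₁ hE₁
  have h₂ := S5134.result p hS' F' hF' F'.center (Fusion91.stronglyClosed_center F') _ E₂ hE₂
  haveI : Finite (S ⧸ F.center.subgroupOf S) := Quotient.finite _
  haveI : Finite (S' ⧸ F'.center.subgroupOf S') := Quotient.finite _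
  have hq₁ := fiso_quot h h₁ h₂
    (fun x hx hx1 => (push_mk'_eq_one (h.mem x hx)).mpr
      (img_center h ▸ h.apply_mem_img ((push_mk'_eq_one hx).mp hx1)))
    (fun y hy hy1 => (push_mk'_eq_one (h.mem' y hy)).mpr
      (img_center h.symm ▸ h.symm.apply_mem_img ((push_mk'_eq_one hy).mp hy1)))
  exact hq₁.symm.isSimple (hsimp E₁ hE₁)

/-- Components are carried to components by isomorphisms. -/
theorem component_transport [Finite S] [Finite S'] {p : ℕ} [Fact p.Prime] (hS : IsPGroup p S)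
    (hS' : IsPGroup p S') (h : FIso F F' a b) {T : Subgroup Ω} {C : Cfsg.FusionSystem T}
    (hC : C.IsComponentIn F p) {T' : Subgroup Ω'} {C' : Cfsg.FusionSystem T'} {b' : Ω' → Ω}
    (he : FIso C C' a b') : C'.IsComponentIn F' p := by
  have hs := subnormal_transport hC.1 inferInstance Fact.out h he
  have hTS := sys_le (subnormal_sub hC.1)
  have hTS' := sys_le (subnormal_sub hs)
  haveI : Finite T := finite_of_le hTS
  haveI : Finite T' := finite_of_le hTS'
  exact ⟨hs, quasisimple_transport he (hS.to_le hTS) (hS'.to_le hTS') hC.2⟩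

/-- Components are carried to components by maps of the system. -/
theorem component_conj [Finite S] {p : ℕ} [Fact p.Prime] (hS : IsPGroup p S) {T : Subgroup Ω}
    {C : Cfsg.FusionSystem T} (hC : C.IsComponentIn F p) {f g : Ω → Ω} (hf : IsMap F T f)
    {T' : Subgroup Ω} {C' : Cfsg.FusionSystem T'} (he : FIso C C' f g) : C'.IsComponentIn F p := by
  have hs := subnormal_conj hC.1 inferInstance Fact.out hf he
  have hTS := sys_le (subnormal_sub hC.1)
  have hTS' := sys_le (subnormal_sub hs)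
  haveI : Finite T := finite_of_le hTS
  haveI : Finite T' := finite_of_le hTS'
  exact ⟨hs, quasisimple_transport he (hS.to_le hTS) (hS.to_le hTS') hC.2⟩

end Cfsg.Agent.Fus19
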