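import Cfsg.Agent.Fus93.Iso
import Cfsg.Agent.Lib.Fusion.Invariant
import Cfsg.Agent.Fusion91.Solvable
import Cfsg.Agent.S5134

/-!
Transport of subnormal subsystems, centres, hyperfocal subgroups and quasisimplicity along
isomorphisms of fusion systems.
-/

set_option autoImplicit false

namespace Cfsg.Agent.Fus19

open Cfsg Cfsg.Agent.Fusion Cfsg.Agent.Fus93
open Cfsg.Agent.Fusion91 (push push_of_mem)
open Cfsg.FusionSystem (IsSubnormalIn imageAlong preimageAlong)

variable {Ω : Type*} [Group Ω] {S : Subgroup Ω} {Ω' : Type*} [Group Ω'] {S' : Subgroup Ω'}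
  {Ω'' : Type*} [Group Ω''] {S'' : Subgroup Ω''}
variable {F : Cfsg.FusionSystem S} {F' : Cfsg.FusionSystem S'} {F'' : Cfsg.FusionSystem S''}
  {a : Ω → Ω'} {b : Ω' → Ω}

/-! ### Composition and uniqueness -/

theorem fiso_trans (h : FIso F F' a b) {a' : Ω' → Ω''} {b' : Ω'' → Ω'} (h' : FIso F' F'' a' b') :
    FIso F F'' (a' ∘ a) (b ∘ b') where
  map_mul x hx y hy := by
    simp only [Function.comp_apply]
    rw [h.map_mul x hx y hy, h'.map_mul _ (h.mem x hx) _ (h.mem y hy)]
  mem x hx := h'.mem _ (h.mem x hx)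
  mem' y hy := h.mem' _ (h'.mem' y hy)
  left x hx := by simp only [Function.comp_apply, h'.left _ (h.mem x hx), h.left x hx]
  right y hy := by simp only [Function.comp_apply, h.right _ (h'.mem' y hy), h'.right y hy]
  push P f hf P'' hP'' :=
    h'.push _ _ (h.map hf) P'' (by rw [hP'', h.coe_img hf.dom_le, ← Set.image_comp])
  pull P'' f hf P hP :=
    h.pull _ _ (h'.symm.map hf) P (by rw [hP, h'.symm.coe_img hf.dom_le, ← Set.image_comp])

theorem fiso_congr (h : FIso F F' a b) {a' : Ω → Ω'} {b' : Ω' → Ω} (ha : Set.EqOn a a' S)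
    (hb : Set.EqOn b b' S') : FIso F F' a' b' where
  map_mul x hx y hy := by rw [← ha hx, ← ha hy, ← ha (S.mul_mem hx hy), h.map_mul x hx y hy]
  mem x hx := ha hx ▸ h.mem x hx
  mem' y hy := hb hy ▸ h.mem' y hy
  left x hx := by rw [← ha hx, ← hb (h.mem x hx), h.left x hx]
  right y hy := by rw [← hb hy, ← ha (h.mem' y hy), h.right y hy]
  push P f hf P' hP' := by
    have hP'e : (P' : Set Ω') = a '' P :=
      hP'.trans (Set.image_congr fun x hx => (ha (hf.dom_le hx)).symm)
    have h1 := h.push P f hf P' hP'e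
    refine h1.congr fun y hy => ?_
    have hbP : b y ∈ P := by
      obtain ⟨x, hx, rfl⟩ : y ∈ a '' (P : Set Ω) := hP'e ▸ hy
      rwa [h.left x (hf.dom_le hx)]
    simp only [Function.comp_apply, ← hb (h1.dom_le hy), ← ha (hf.apply_mem hbP)]
  pull P' f hf P hP := by
    have hPe : (P : Set Ω) = b '' P' :=
      hP.trans (Set.image_congr fun y hy => (hb (hf.dom_le hy)).symm)
    have h1 := h.pull P' f hf P hPe
    refine h1.congr fun x hx => ?_
    have haP : a x ∈ P' := by
      obtain ⟨y, hy, rfl⟩ : x ∈ b '' (P' : Set Ω') := hPe ▸ hx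
      rwa [h.right y (hf.dom_le hy)]
    simp only [Function.comp_apply, ← ha (h1.dom_le hx), ← hb (hf.apply_mem haP)]

/-- Two isomorphisms out of a system with the same function go to the same system. -/
theorem fiso_unique (h : FIso F F' a b) {U : Subgroup Ω'} {D : Cfsg.FusionSystem U} {b' : Ω' → Ω}
    (h' : FIso F D a b') : U = S' ∧ HEq D F' := by
  have hU : U = S' := h'.img_top.symm.trans h.img_top
  subst hU
  refine ⟨rfl, heq_of_eq (fusion_antisymm ?_ ?_)⟩
  all_goals refine le_of_isMap fun P g hg => ?_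
  · have h1 := h.map (h'.symm.map hg)
    rw [h'.symm.img_img hg.dom_le] at h1
    refine h1.congr fun x hx => ?_
    simp only [Function.comp_apply, h.right x (hg.dom_le hx), h'.right _ (hg.apply_mem hx)]
  · have h1 := h'.map (h.symm.map hg)
    rw [h.symm.img_img hg.dom_le] at h1
    refine h1.congr fun x hx => ?_
    simp only [Function.comp_apply, h'.right x (hg.dom_le hx), h.right _ (hg.apply_mem hx)]

/-! ### Images of subsystems -/

theorem sys_le {T : Subgroup Ω} {E : Cfsg.FusionSystem T} (h : E.IsSubsystemOf F) : T ≤ S :=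
  ((isMap_id (F := E) le_rfl).of_isSubsystemOf h).dom_le

theorem subnormal_sub {T : Subgroup Ω} {E : Cfsg.FusionSystem T} {S : Subgroup Ω} {F : Cfsg.FusionSystem S}
    {p : ℕ} (h : E.IsSubnormalIn F p) : E.IsSubsystemOf F := by
  induction h with
  | refl => exact fun P => subset_rfl
  | step _ h2 ih => exact fun P => (ih P).trans (h2.1.2.2.1 P)

/-- The maps of a system between subgroups of `T`. -/
noncomputable def resSys (F : Cfsg.FusionSystem S) (T : Subgroup Ω) (hT : T ≤ S) : Cfsg.FusionSystem T :=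
  mkSub F T (fun P f => IsMap F P f ∧ P ≤ T ∧ ∀ x ∈ P, f x ∈ T)
    (fun {P f g} hf hfg => ⟨hf.1.congr hfg, hf.2.1, fun x hx => hfg hx ▸ hf.2.2 x hx⟩)
    (fun {P f} hf => hf)
    (fun {P g} hP hg => ⟨isMap_conj (hP.trans hT) (hT hg), hP,
      fun x hx => T.mul_mem (T.mul_mem hg (hP hx)) (T.inv_mem hg)⟩)
    (fun {P Q f g} hf hg hm => ⟨hf.1.comp hg.1 hm, hf.2.1, fun x hx => hg.2.2 _ (hm x hx)⟩)
    (fun {P Q f g} hf hi hg _ => ⟨hg.1, fun y hy => by
      obtain ⟨x, hx, rfl⟩ := hi.exists_preimage hy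
      exact hf.2.2 x hx, fun y hy => hf.2.1 (hg.mem hy)⟩)

theorem isMap_resSys {T : Subgroup Ω} {hT : T ≤ S} {P : Subgroup Ω} {f : Ω → Ω} :
    IsMap (resSys F T hT) P f ↔ IsMap F P f ∧ P ≤ T ∧ ∀ x ∈ P, f x ∈ T :=
  isMap_mkSub

theorem resSys_sub {T : Subgroup Ω} {hT : T ≤ S} : (resSys F T hT).IsSubsystemOf F :=
  fun _ => hom_subset_of_isMap fun _ hf => (isMap_resSys.mp hf).1

theorem resSys_conj_aux {T T' : Subgroup Ω} {hT : T ≤ S} {hT' : T' ≤ S} {f g : Ω → Ω}
    (hf : IsIso F T T' f) (hg : IsIso F T' T g) (hgl : ∀ x ∈ T, g (f x) = x)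
    {P : Subgroup Ω} {e : Ω → Ω} (he : IsMap (resSys F T hT) P e)
    {P' : Subgroup Ω} (hP' : (P' : Set Ω) = f '' P) : IsMap (resSys F T' hT') P' (f ∘ e ∘ g) := by
  obtain ⟨he1, hPT, hev⟩ := isMap_resSys.mp he
  have hP'T : P' ≤ T' := fun y hy => by
    obtain ⟨x, hx, rfl⟩ : y ∈ f '' (P : Set Ω) := hP' ▸ hy
    exact hf.mem (hPT hx)
  have hgP : ∀ y ∈ P', g y ∈ P := fun y hy => by
    obtain ⟨x, hx, rfl⟩ : y ∈ f '' (P : Set Ω) := hP' ▸ hy
    rwa [hgl x (hPT hx)]
  exact isMap_resSys.mpr ⟨((hg.1.mono hP'T).comp he1 hgP).comp hf.1 fun y hy => hev _ (hgP y hy),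
    hP'T, fun y hy => hf.mem (hev _ (hgP y hy))⟩

theorem fiso_resSys {T T' : Subgroup Ω} (hT : T ≤ S) (hT' : T' ≤ S) {f g : Ω → Ω}
    (hf : IsIso F T T' f) (hg : IsIso F T' T g) (hgl : ∀ x ∈ T, g (f x) = x)
    (hgr : ∀ y ∈ T', f (g y) = y) : FIso (resSys F T hT) (resSys F T' hT') f g where
  map_mul x hx y hy := hf.1.map_mul hx hy
  mem x hx := hf.mem hx
  mem' y hy := hg.mem hy
  left := hgl
  right := hgr
  push _ _ he _ hP' := resSys_conj_aux hf hg hgl he hP'
  pull _ _ he _ hP := resSys_conj_aux hg hf hgr he hP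

theorem fiso_resSys_self : resSys F S le_rfl = F :=
  fusion_antisymm (le_of_isMap fun _ _ hf => (isMap_resSys.mp hf).1)
    (le_of_isMap fun _ _ hf => isMap_resSys.mpr ⟨hf, hf.dom_le, fun _ hx => hf.apply_mem hx⟩)

/-- The image of a subsystem under a map of the system. -/
theorem exists_image {T : Subgroup Ω} {E : Cfsg.FusionSystem T} (hsub : E.IsSubsystemOf F) {f : Ω → Ω}
    (hf : IsMap F T f) :
    ∃ (T' : Subgroup Ω) (g : Ω → Ω) (E' : Cfsg.FusionSystem T'),
      IsIso F T T' f ∧ E'.IsSubsystemOf F ∧ FIso E E' f g := by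
  obtain ⟨T', hi⟩ := hf.exists_image
  obtain ⟨g, hg, hgl, hgr⟩ := hi.exists_inv
  have hi' := fiso_resSys hi.dom_le hi.cod_le hi hg hgl hgr
  have hE : E.IsSubsystemOf (resSys F T hi.dom_le) := fun P => hom_subset_of_isMap fun e he =>
    isMap_resSys.mpr ⟨he.of_isSubsystemOf hsub, he.dom_le, fun x hx => he.apply_mem hx⟩
  have hr := hi'.restrictIso E le_rfl hE
  have himg : img f T = T' := hi'.img_top
  refine ⟨img f T, g, hi'.pushSys E le_rfl hE, himg.symm ▸ hi, fun P => hom_subset_of_isMap fun e he => ?_, hr⟩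
  obtain ⟨hP, hv, h3⟩ := hi'.isMap_pushSys.mp he
  have h1 := hi'.map (h3.of_isSubsystemOf hE)
  rw [hi'.symm.img_img (hP.trans himg.le)] at h1
  refine (isMap_resSys.mp h1).1.congr fun x hx => ?_
  simp only [Function.comp_apply, hgr x (himg ▸ hP hx), hgr _ (himg ▸ hv x hx)]

/-- An automorphism of the system defined on all of `S` is an isomorphism onto the system itself. -/
theorem fiso_self [Finite S] {f : Ω → Ω} (hf : IsMap F S f) : ∃ g, FIso F F f g := by
  obtain ⟨T', hi⟩ := hf.exists_image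
  obtain rfl : T' = S := Subgroup.eq_of_le_of_card_ge hi.cod_le hi.card_eq.le
  obtain ⟨g, hg, hgl, hgr⟩ := hi.exists_inv
  refine ⟨g, ?_⟩
  have := fiso_resSys le_rfl le_rfl hi hg hgl hgr
  rwa [fiso_resSys_self] at this

theorem fiso_invariant_aux {U : Subgroup Ω} {D : Cfsg.FusionSystem U} (hD : D.IsInvariantIn F)
    {k k' : Ω → Ω} (hk : IsIso F U U k) (hkl : ∀ x ∈ U, k' (k x) = x) {P : Subgroup Ω} {e : Ω → Ω}
    (he : IsMap D P e) {P' : Subgroup Ω} (hP' : (P' : Set Ω) = k '' P) : IsMap D P' (k ∘ e ∘ k') := by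
  obtain ⟨g, hg, hge⟩ := invariant_inv hD he hk hP'
  refine hg.congr fun y hy => ?_
  obtain ⟨x, hx, rfl⟩ : y ∈ k '' (P : Set Ω) := hP' ▸ hy
  simp only [Function.comp_apply, hkl x (he.dom_le hx), hge x hx]

/-- An invariant subsystem is preserved by the automorphisms of its subgroup in the whole system. -/
theorem fiso_invariant {U : Subgroup Ω} {D : Cfsg.FusionSystem U} (hD : D.IsInvariantIn F)
    {k : Ω → Ω} (hk : IsIso F U U k) : ∃ k', FIso D D k k' := by
  obtain ⟨k', hk', hkl, hkr⟩ := hk.exists_inv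
  exact ⟨k',
    { map_mul := fun x hx y hy => hk.1.map_mul hx hy
      mem := fun x hx => hk.mem hx
      mem' := fun y hy => hk'.mem hy
      left := hkl
      right := hkr
      push := fun _ _ he _ hP' => fiso_invariant_aux hD hk hkl he hP'
      pull := fun _ _ he _ hP => fiso_invariant_aux hD hk' hkr he hP }⟩

/-! ### Subnormal subsystems -/

/-- An isomorphism carries subnormal subsystems to subnormal subsystems. -/
theorem subnormal_transport {p : ℕ} {T : Subgroup Ω} {E : Cfsg.FusionSystem T} {S : Subgroup Ω}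
    {F : Cfsg.FusionSystem S} (hE : E.IsSubnormalIn F p) :
    Finite S → p.Prime → ∀ {S' : Subgroup Ω'} {F' : Cfsg.FusionSystem S'} {a : Ω → Ω'} {b : Ω' → Ω},
      FIso F F' a b → ∀ {T' : Subgroup Ω'} {E' : Cfsg.FusionSystem T'} {b' : Ω' → Ω},
        FIso E E' a b' → E'.IsSubnormalIn F' p := by
  induction hE with
  | refl F p =>
    intro _ _ S' F' a b h T' E' b' he
    obtain ⟨rfl, he'⟩ := fiso_unique h he
    obtain rfl := eq_of_heq he'
    exact IsSubnormalIn.refl _ _
  | step _ h2 ih =>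
    intro hfin hp S' F' a b h T' E' b' he
    have : Fact _ := ⟨hp⟩
    have hU := sys_le h2.1.2.2.1
    exact IsSubnormalIn.step
      (ih (finite_of_le hU) hp (h.restrictIso _ hU h2.1.2.2.1) he) (h.pushSys_isNormalIn h2)

/-- The image of a subnormal subsystem under a map of the system is subnormal. -/
theorem subnormal_conj {p : ℕ} {T : Subgroup Ω} {E : Cfsg.FusionSystem T} {S : Subgroup Ω}
    {F : Cfsg.FusionSystem S} (hE : E.IsSubnormalIn F p) :
    Finite S → p.Prime → ∀ {f g : Ω → Ω}, IsMap F T f → ∀ {T' : Subgroup Ω} {E' : Cfsg.FusionSystem T'},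
      FIso E E' f g → E'.IsSubnormalIn F p := by
  induction hE with
  | refl F p =>
    intro hfin _ f g hf T' E' he
    obtain ⟨g', hF⟩ := fiso_self hf
    obtain ⟨rfl, he'⟩ := fiso_unique hF he
    obtain rfl := eq_of_heq he'
    exact IsSubnormalIn.refl _ _
  | step h1 h2 ih =>
    intro hfin hp f g hf T' E' he
    have hinv := h2.1.2.2
    have hU := sys_le hinv.1
    have hTU := sys_le (subnormal_sub h1)
    obtain ⟨k, φ₀, hk, hφ₀, hfe⟩ := invariant_frattini hinv hf hTU
    obtain ⟨T₁, g₀, E₁, -, hE₁, he₁⟩ := exists_image (subnormal_sub h1) hφ₀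
    have hs₁ := ih (finite_of_le hU) hp hφ₀ he₁
    obtain ⟨k', hDk⟩ := fiso_invariant hinv hk
    have he₂ := hDk.restrictIso E₁ (sys_le hE₁) hE₁
    have hs₂ := subnormal_transport hs₁ (finite_of_le hU) hp hDk he₂
    have he₃ := fiso_congr (fiso_trans he₁ he₂) (a' := f) (b' := g₀ ∘ k')
      (fun x hx => (hfe x hx).symm) fun _ _ => rfl
    obtain ⟨rfl, he'⟩ := fiso_unique he₃ he
    obtain rfl := eq_of_heq he'
    exact IsSubnormalIn.step hs₂ h2

end Cfsg.Agent.Fus19
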